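import Cfsg.Agent.Lib.Theta.Poisson
import Mathlib.NumberTheory.ModularForms.LevelOne.DimensionFormula
import Mathlib.NumberTheory.ModularForms.Identities

/-!
# Theta series of even unimodular lattices as level one modular forms
-/

set_option autoImplicit false
set_option linter.unusedSectionVars false

open Complex Matrix ModularForm ModularGroup Function
open UpperHalfPlane hiding I
open scoped Real MatrixGroups Manifold

noncomputable section

namespace Cfsg.Agent.Theta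

variable {ι : Type*} [Fintype ι] [DecidableEq ι]

theorem qf_map_iv (B : Matrix ι ι ℤ) (x : ι → ℤ) :
    qf (B.map (Int.cast : ℤ → ℝ)) (iv x) = ((x ⬝ᵥ (B *ᵥ x) : ℤ) : ℝ) := by
  simp [qf, iv, dotProduct, mulVec]

theorem posDef_map {B : Matrix ι ι ℤ} (hsymm : B.IsSymm)
    (hpos : ∀ x : ι → ℤ, x ≠ 0 → 0 < x ⬝ᵥ (B *ᵥ x)) (hdet : B.det = 1) :
    (B.map (Int.cast : ℤ → ℝ)).PosDef := by
  have hT : (B.map (Int.cast : ℤ → ℝ)).IsHermitian := by
    rw [IsHermitian, conjTranspose_eq_transpose_of_trivial, ← transpose_map]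
    exact congrArg (fun M : Matrix ι ι ℤ => M.map (Int.cast : ℤ → ℝ)) hsymm.eq
  -- positive semidefinite by rational approximation
  have hint : ∀ x : ι → ℤ, 0 ≤ qf (B.map (Int.cast : ℤ → ℝ)) (iv x) := fun x => by
    rw [qf_map_iv]
    rcases eq_or_ne x 0 with rfl | hx
    · simp
    · exact_mod_cast (hpos x hx).le
  have hsd : (B.map (Int.cast : ℤ → ℝ)).PosSemidef := by
    refine PosSemidef.of_dotProduct_mulVec_nonneg hT fun v => ?_
    rw [star_trivial]
    by_contra hneg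
    push Not at hneg
    have hlim : Filter.Tendsto (fun n : ℕ => fun i => ((⌊(n : ℝ) * v i⌋ : ℤ) : ℝ) / n) Filter.atTop
        (nhds v) := tendsto_pi_nhds.2 fun i => by
      refine tendsto_of_tendsto_of_tendsto_of_le_of_le'
        (g := fun n : ℕ => v i - 1 / (n : ℝ)) (h := fun _ => v i)
        ?_ tendsto_const_nhds ?_ ?_
      · simpa using tendsto_const_nhds.sub (tendsto_one_div_atTop_nhds_zero_nat (𝕜 := ℝ))
      · filter_upwards [Filter.eventually_gt_atTop 0] with n hn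
        have hn' : (0 : ℝ) < n := Nat.cast_pos.2 hn
        rw [le_div_iff₀ hn', sub_mul, one_div, inv_mul_cancel₀ hn'.ne']
        linarith [Int.lt_floor_add_one ((n : ℝ) * v i)]
      · filter_upwards [Filter.eventually_gt_atTop 0] with n hn
        have hn' : (0 : ℝ) < n := Nat.cast_pos.2 hn
        rw [div_le_iff₀ hn']
        linarith [Int.floor_le ((n : ℝ) * v i)]
    obtain ⟨n, hn⟩ := (((continuous_qf (B.map (Int.cast : ℤ → ℝ))).tendsto v).comp hlim
      |>.eventually (eventually_lt_nhds hneg)).exists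
    refine hn.not_ge ?_
    have e : qf (B.map (Int.cast : ℤ → ℝ)) (fun i => ((⌊(n : ℝ) * v i⌋ : ℤ) : ℝ) / n) =
        ((n : ℝ)⁻¹) ^ 2 * qf (B.map (Int.cast : ℤ → ℝ)) (iv fun i => ⌊(n : ℝ) * v i⌋) := by
      simp only [qf, iv, dotProduct, mulVec, Finset.mul_sum]
      exact Finset.sum_congr rfl fun i _ => Finset.sum_congr rfl fun j _ => by ring
    show (0 : ℝ) ≤ qf _ _
    rw [e]
    exact mul_nonneg (sq_nonneg _) (hint _)
  refine hsd.posDef_iff_det_ne_zero.2 ?_
  have := (Int.castRingHom ℝ).map_det B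
  rw [hdet, map_one] at this
  exact fun h => one_ne_zero (this.trans h)

variable (B : Matrix ι ι ℤ)

/-- The theta series. -/
def theta (τ : ℍ) : ℂ := ∑' x : ι → ℤ, gauss (B.map (Int.cast : ℤ → ℝ)) (-I * τ) (iv x)

theorem re_neg_I_mul (τ : ℂ) : (-I * τ).re = τ.im := by simp

theorem theta_S (hpd : (B.map (Int.cast : ℤ → ℝ)).PosDef) (hdet : B.det = 1) {h : ℕ}
    (hι : Fintype.card ι = 2 * h) (hh : (-I) ^ h = 1) :
    theta B ∣[(h : ℤ)] ModularGroup.S = theta B := by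
  ext τ
  rw [SlashInvariantForm.slash_S_apply]
  have hτ : (τ : ℂ) ≠ 0 := ne_zero τ
  have ha : 0 < (-I * (τ : ℂ)).re := by rw [re_neg_I_mul]; exact τ.im_pos
  have e : -I * (-(τ : ℂ))⁻¹ = (-I * (τ : ℂ))⁻¹ := by
    rw [mul_inv, inv_neg, inv_neg, Complex.inv_I]
    ring
  simp only [theta, e]
  rw [poisson hpd hdet hι ha, mul_pow, hh, one_mul, _root_.zpow_neg, zpow_natCast]
  field_simp

theorem theta_T (heven : ∀ x : ι → ℤ, (2 : ℤ) ∣ x ⬝ᵥ (B *ᵥ x)) {k : ℤ} :
    theta B ∣[k] ModularGroup.T = theta B := by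
  ext τ
  rw [SL_slash_apply, modular_T_smul]
  have hd : denom (ModularGroup.T : GL (Fin 2) ℝ) τ = 1 := by
    show ((((1 : ℤ) * 0 : ℤ) : ℝ) : ℂ) * (τ : ℂ) + ((((1 : ℤ)) : ℝ) : ℂ) = 1
    simp
  simp only [theta, coe_vadd, hd, _root_.one_zpow, mul_one]
  refine tsum_congr fun x => ?_
  obtain ⟨j, hj⟩ := heven x
  simp only [gauss, qf_map_iv, hj]
  push_cast
  rw [Complex.exp_eq_exp_iff_exists_int]
  exact ⟨j, by ring⟩

theorem theta_mdifferentiable (hpd : (B.map (Int.cast : ℤ → ℝ)).PosDef) :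
    MDiff (theta B) := by
  rw [UpperHalfPlane.mdifferentiable_iff]
  intro z (hz : 0 < z.im)
  set R := B.map (Int.cast : ℤ → ℝ)
  have hU : IsOpen {w : ℂ | z.im / 2 < w.im} := isOpen_lt continuous_const continuous_im
  have hd : DifferentiableOn ℂ (fun w : ℂ => ∑' x : ι → ℤ, gauss R (-I * w) (iv x))
      {w | z.im / 2 < w.im} := by
    refine differentiableOn_tsum_of_summable_norm
      (u := fun x : ι → ℤ => ‖gauss R ((z.im / 2 : ℝ) : ℂ) (iv x)‖) ?_ (fun x => ?_) hU ?_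
    · exact (summable_gauss_iv hpd (by simpa using half_pos hz)).norm
    · unfold gauss; fun_prop
    · intro x w (hw : z.im / 2 < w.im)
      simp only [norm_gauss, re_neg_I_mul, ofReal_re, Real.exp_le_exp]
      have hq : 0 ≤ qf R (iv x) := by
        obtain ⟨c, hc, hcb⟩ := exists_qf_ge hpd
        exact le_trans (mul_nonneg hc.le (Finset.sum_nonneg fun i _ => sq_nonneg _)) (hcb _)
      nlinarith [mul_le_mul_of_nonneg_left hw.le (mul_nonneg Real.pi_pos.le hq)]
  refine ((hd.differentiableAt (hU.mem_nhds (show z.im / 2 < z.im by linarith))).congr_of_eventuallyEq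
    ?_).differentiableWithinAt
  filter_upwards [isOpen_upperHalfPlaneSet.mem_nhds hz] with w (hw : 0 < w.im)
  simp only [Function.comp_apply, theta, ofComplex_apply_of_im_pos hw]
  rfl

theorem theta_isBoundedAtImInfty (hpd : (B.map (Int.cast : ℤ → ℝ)).PosDef) :
    IsBoundedAtImInfty (theta B) := by
  rw [UpperHalfPlane.isBoundedAtImInfty_iff]
  set R := B.map (Int.cast : ℤ → ℝ)
  refine ⟨∑' x : ι → ℤ, ‖gauss R 1 (iv x)‖, 1, fun τ hτ => ?_⟩
  refine tsum_of_norm_bounded (summable_gauss_iv hpd (by simp : 0 < (1 : ℂ).re)).norm.hasSum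
    fun x => ?_
  simp only [norm_gauss, re_neg_I_mul, one_re, Real.exp_le_exp]
  have hq : 0 ≤ qf R (iv x) := by
    obtain ⟨c, hc, hcb⟩ := exists_qf_ge hpd
    exact le_trans (mul_nonneg hc.le (Finset.sum_nonneg fun i _ => sq_nonneg _)) (hcb _)
  have : (1 : ℝ) ≤ (τ : ℂ).im := hτ
  nlinarith [mul_le_mul_of_nonneg_left this (mul_nonneg Real.pi_pos.le hq)]

/-- The number of vectors of norm `2 n`. -/
def shell (n : ℕ) : ℕ := {x : ι → ℤ | x ⬝ᵥ (B *ᵥ x) = 2 * (n : ℤ)}.ncard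

theorem finite_shell (hpd : (B.map (Int.cast : ℤ → ℝ)).PosDef) (N : ℤ) :
    {x : ι → ℤ | x ⬝ᵥ (B *ᵥ x) = N}.Finite := by
  have h := (summable_gauss_iv hpd (by simp : 0 < (1 : ℂ).re)).norm.tendsto_cofinite_zero
  have h2 := h.eventually (eventually_lt_nhds (Real.exp_pos (-π * N)))
  rw [Filter.eventually_cofinite] at h2
  refine h2.subset fun x (hx : x ⬝ᵥ (B *ᵥ x) = N) => ?_
  simp only [Set.mem_ofPred_eq, norm_gauss, one_re, mul_one, qf_map_iv, hx, not_lt, le_refl]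

theorem hasSum_theta (hpd : (B.map (Int.cast : ℤ → ℝ)).PosDef)
    (heven : ∀ x : ι → ℤ, (2 : ℤ) ∣ x ⬝ᵥ (B *ᵥ x)) (τ : ℍ) :
    HasSum (fun n => (shell B n : ℂ) • Periodic.qParam 1 τ ^ n) (theta B τ) := by
  set R := B.map (Int.cast : ℤ → ℝ)
  have ha : 0 < (-I * (τ : ℂ)).re := by rw [re_neg_I_mul]; exact τ.im_pos
  have h := (summable_gauss_iv hpd ha).hasSum
  let N : (ι → ℤ) → ℕ := fun x => (x ⬝ᵥ (B *ᵥ x) / 2).toNat
  have hN : ∀ x, x ⬝ᵥ (B *ᵥ x) = 2 * (N x : ℤ) := fun x => by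
    obtain ⟨j, hj⟩ := heven x
    have h0 : (0 : ℝ) ≤ qf R (iv x) := by
      obtain ⟨c, hc, hcb⟩ := exists_qf_ge hpd
      exact le_trans (mul_nonneg hc.le (Finset.sum_nonneg fun i _ => sq_nonneg _)) (hcb _)
    rw [qf_map_iv] at h0
    have h0' : 0 ≤ x ⬝ᵥ (B *ᵥ x) := by exact_mod_cast h0
    simp only [N, hj] at h0' ⊢
    omega
  have h2 := (Equiv.sigmaFiberEquiv N).hasSum_iff.2 h
  refine h2.sigma fun n => ?_
  haveI : Finite {x : ι → ℤ // N x = n} := by
    refine ((finite_shell B hpd (2 * (n : ℤ))).subset fun x (hx : N x = n) => ?_).to_subtype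
    show x ⬝ᵥ (B *ᵥ x) = _
    rw [hN x, hx]
  haveI := Fintype.ofFinite {x : ι → ℤ // N x = n}
  have hcard : Fintype.card {x : ι → ℤ // N x = n} = shell B n := by
    rw [← Nat.card_eq_fintype_card, shell, ← Nat.card_coe_set_eq]
    refine Nat.card_congr (Equiv.subtypeEquivRight fun x => ?_)
    rw [Set.mem_ofPred_eq, hN x]
    omega
  convert hasSum_fintype (fun x : {x : ι → ℤ // N x = n} => gauss R (-I * τ) (iv x.1)) using 1
  · rfl
  rw [Finset.sum_congr rfl (fun x _ => show gauss R (-I * τ) (iv x.1) = Periodic.qParam 1 (τ : ℂ) ^ n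
    from ?_), Finset.sum_const, Finset.card_univ, hcard, nsmul_eq_mul, smul_eq_mul]
  simp only [gauss, R, qf_map_iv, hN x.1, x.2, Periodic.qParam, ← Complex.exp_nat_mul]
  congr 1
  push_cast
  ring

/-- The theta series as a modular form. -/
def thetaForm (hpd : (B.map (Int.cast : ℤ → ℝ)).PosDef) (hdet : B.det = 1)
    (heven : ∀ x : ι → ℤ, (2 : ℤ) ∣ x ⬝ᵥ (B *ᵥ x)) {h : ℕ}
    (hι : Fintype.card ι = 2 * h) (hh : (-I) ^ h = 1) : ModularForm 𝒮ℒ (h : ℤ) where
  toFun := theta B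
  slash_action_eq' := fun _ ⟨γ, hγ⟩ => hγ ▸
    SlashInvariantForm.slash_action_generators_SL2Z (theta_S B hpd hdet hι hh) (theta_T B heven) γ
  holo' := theta_mdifferentiable B hpd
  bdd_at_cusps' {c} hc := by
    rw [Subgroup.IsArithmetic.isCusp_iff_isCusp_SL2Z] at hc
    rw [OnePoint.isBoundedAt_iff_forall_SL2Z hc]
    intro γ _
    rw [SlashInvariantForm.slash_action_generators_SL2Z (theta_S B hpd hdet hι hh)
      (theta_T B heven) γ]
    exact theta_isBoundedAtImInfty B hpd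

theorem coeff_thetaForm (hpd : (B.map (Int.cast : ℤ → ℝ)).PosDef) (hdet : B.det = 1)
    (heven : ∀ x : ι → ℤ, (2 : ℤ) ∣ x ⬝ᵥ (B *ᵥ x)) {h : ℕ}
    (hι : Fintype.card ι = 2 * h) (hh : (-I) ^ h = 1) (n : ℕ) :
    (qExpansion 1 (thetaForm B hpd hdet heven hι hh)).coeff n = (shell B n : ℂ) :=
  (ModularFormClass.qExpansion_coeff_unique one_pos one_mem_strictPeriods_SL
    (f := thetaForm B hpd hdet heven hι hh) (c := fun n => (shell B n : ℂ))
    (hasSum_theta B hpd heven) n).symm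

end Cfsg.Agent.Theta
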