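import Mathlib.Analysis.Fourier.AddCircleMulti
import Mathlib.Analysis.SpecialFunctions.Gaussian.FourierTransform
import Mathlib.Analysis.Matrix.Order
import Mathlib.MeasureTheory.Measure.Lebesgue.Basic
import Mathlib.MeasureTheory.Integral.Bochner.Set

/-!
# Poisson summation for Gaussians on a unimodular lattice

For a positive definite integer matrix `B` of determinant one in even rank `2 h`:
`∑ exp(-π a⁻¹ xᵀBx) = a ^ h * ∑ exp(-π a xᵀBx)`.
-/

set_option autoImplicit false
set_option linter.unusedSectionVars false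

open MeasureTheory Complex Matrix UnitAddTorus
open scoped Real

noncomputable section

namespace Cfsg.Agent.Theta

variable {ι : Type*} [Fintype ι]

/-- The quadratic form of a real matrix. -/
def qf (B : Matrix ι ι ℝ) (v : ι → ℝ) : ℝ := v ⬝ᵥ (B *ᵥ v)

/-- An integral vector as a real vector. -/
def iv (x : ι → ℤ) : ι → ℝ := fun i => (x i : ℝ)

/-- The Gaussian `exp(-π a Q(v))`. -/
def gauss (B : Matrix ι ι ℝ) (a : ℂ) (v : ι → ℝ) : ℂ := cexp (-(π : ℂ) * a * (qf B v : ℂ))

/-- The character with frequency `m`. -/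
def wave (m : ι → ℤ) (v : ι → ℝ) : ℂ :=
  cexp (-(2 * π * I) * ∑ i, (m i : ℂ) * (v i : ℂ))

theorem norm_gauss (B : Matrix ι ι ℝ) (a : ℂ) (v : ι → ℝ) :
    ‖gauss B a v‖ = Real.exp (-π * a.re * qf B v) := by
  rw [gauss, Complex.norm_exp]
  congr 1
  simp [mul_re, mul_im]

theorem norm_wave (m : ι → ℤ) (v : ι → ℝ) : ‖wave m v‖ = 1 := by
  have : ∑ i, (m i : ℂ) * (v i : ℂ) = ((∑ i, (m i : ℝ) * v i : ℝ) : ℂ) := by push_cast; rfl
  rw [wave, this, Complex.norm_exp]
  simp [mul_re, mul_im]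

theorem continuous_qf (B : Matrix ι ι ℝ) : Continuous (qf B) := by
  unfold qf dotProduct mulVec dotProduct
  fun_prop

theorem continuous_gauss (B : Matrix ι ι ℝ) (a : ℂ) : Continuous (gauss B a) := by
  have := continuous_qf B
  unfold gauss
  fun_prop

theorem continuous_wave (m : ι → ℤ) : Continuous (wave m) := by
  unfold wave
  fun_prop

theorem wave_add_iv (m : ι → ℤ) (v : ι → ℝ) (x : ι → ℤ) : wave m (v + iv x) = wave m v := by
  have h : ∑ i, (m i : ℂ) * (((v + iv x) i : ℝ) : ℂ) =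
      ∑ i, (m i : ℂ) * (v i : ℂ) + ((∑ i, m i * x i : ℤ) : ℂ) := by
    push_cast [Pi.add_apply, iv]
    rw [← Finset.sum_add_distrib]
    exact Finset.sum_congr rfl fun i _ => by ring
  rw [wave, wave, h, mul_add, Complex.exp_add,
    show -(2 * (π : ℂ) * I) * ((∑ i, m i * x i : ℤ) : ℂ) =
      ((-∑ i, m i * x i : ℤ) : ℂ) * (2 * π * I) by push_cast; ring,
    Complex.exp_int_mul_two_pi_mul_I, mul_one]

theorem exists_factor [DecidableEq ι] {B : Matrix ι ι ℝ} (hB : B.PosDef) :
    ∃ P : Matrix ι ι ℝ, B = Pᵀ * P := by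
  open scoped MatrixOrder in
  obtain ⟨P, hP⟩ := CStarAlgebra.nonneg_iff_eq_star_mul_self.mp hB.posSemidef.nonneg
  exact ⟨P, by rw [hP, star_eq_conjTranspose, conjTranspose_eq_transpose_of_trivial]⟩

theorem qf_transpose_mul (P : Matrix ι ι ℝ) (v : ι → ℝ) :
    qf (Pᵀ * P) v = ∑ i, (P *ᵥ v) i ^ 2 := by
  rw [qf, ← mulVec_mulVec, dotProduct_mulVec, vecMul_transpose]
  exact Finset.sum_congr rfl fun i _ => (sq _).symm

/-- A positive definite form dominates a multiple of the sum of squares. -/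
theorem exists_qf_ge [DecidableEq ι] {B : Matrix ι ι ℝ} (hB : B.PosDef) :
    ∃ c : ℝ, 0 < c ∧ ∀ v, c * ∑ i, v i ^ 2 ≤ qf B v := by
  obtain ⟨P, rfl⟩ := exists_factor hB
  have hdet : IsUnit P.det := by
    have := hB.det_pos
    rw [det_mul, det_transpose] at this
    exact isUnit_iff_ne_zero.2 fun h => by rw [h, mul_zero] at this; exact lt_irrefl _ this
  set K := ∑ i, ∑ j, P⁻¹ i j ^ 2
  have hK : 0 ≤ K := Finset.sum_nonneg fun i _ => Finset.sum_nonneg fun j _ => sq_nonneg _
  refine ⟨(K + 1)⁻¹, by positivity, fun v => ?_⟩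
  rw [qf_transpose_mul]
  have h : ∑ i, v i ^ 2 ≤ K * ∑ i, (P *ᵥ v) i ^ 2 := by
    have e : P⁻¹ *ᵥ (P *ᵥ v) = v := by rw [mulVec_mulVec, nonsing_inv_mul _ hdet, one_mulVec]
    calc ∑ i, v i ^ 2 = ∑ i, (∑ j, P⁻¹ i j * (P *ᵥ v) j) ^ 2 := by
          conv_lhs => rw [← e]
          rfl
      _ ≤ ∑ i, (∑ j, P⁻¹ i j ^ 2) * ∑ j, (P *ᵥ v) j ^ 2 :=
          Finset.sum_le_sum fun i _ => Finset.sum_mul_sq_le_sq_mul_sq _ _ _
      _ = _ := (Finset.sum_mul _ _ _).symm
  have h0 : 0 ≤ ∑ i, (P *ᵥ v) i ^ 2 := Finset.sum_nonneg fun i _ => sq_nonneg _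
  rw [inv_mul_le_iff₀ (by linarith)]
  linarith [h, mul_nonneg hK h0]

theorem summable_exp_int {c : ℝ} (hc : 0 < c) :
    Summable fun n : ℤ => Real.exp (-c * (n : ℝ) ^ 2) := by
  have key : Summable fun n : ℕ => Real.exp (-c * (n : ℝ) ^ 2) := by
    refine Summable.of_nonneg_of_le (fun n => (Real.exp_pos _).le) (fun n => ?_)
      (Real.summable_exp_nat_mul_iff.2 (neg_lt_zero.2 hc))
    refine Real.exp_le_exp.2 ?_
    have : (n : ℝ) ≤ (n : ℝ) ^ 2 := by exact_mod_cast Nat.le_self_pow two_ne_zero n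
    nlinarith
  refine Summable.of_nat_of_neg ?_ ?_ <;> simpa using key

theorem summable_exp_vec {c : ℝ} (hc : 0 < c) :
    Summable fun x : ι → ℤ => Real.exp (-c * ∑ i, (x i : ℝ) ^ 2) := by
  refine Fintype.induction_empty_option
    (P := fun α hα => Summable fun x : α → ℤ => Real.exp (-c * ∑ i, (x i : ℝ) ^ 2)) ?_ ?_ ?_ ι
  · intro α β hβ e ih
    letI := Fintype.ofEquiv β e.symm
    have h := (Equiv.arrowCongr e (Equiv.refl ℤ)).symm.summable_iff.2 ih
    convert h using 1
    funext x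
    simp only [Function.comp_apply, Equiv.arrowCongr_symm, Equiv.arrowCongr_apply, Equiv.refl_symm,
      Equiv.coe_refl, id_eq]
    congr 2
    exact (Fintype.sum_equiv e _ _ fun i => by simp).symm
  · exact Summable.of_finite
  · intro α hα ih
    have h := (summable_exp_int hc).mul_of_nonneg ih (fun n => (Real.exp_pos _).le)
      (fun x => (Real.exp_pos _).le)
    refine ((Equiv.piOptionEquivProd (β := fun _ => ℤ)).symm.summable_iff).1 ?_
    convert h using 1
    funext p
    simp only [Function.comp_apply, Fintype.sum_option, ← Real.exp_add, Equiv.piOptionEquivProd]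
    congr 1
    simp
    ring

theorem re_inv_pos {a : ℂ} (ha : 0 < a.re) : 0 < a⁻¹.re := by
  rw [inv_re]
  exact div_pos ha (normSq_pos.2 fun h => by simp [h] at ha)

variable [DecidableEq ι]

theorem exists_bound {B : Matrix ι ι ℝ} (hB : B.PosDef) {a : ℂ} (ha : 0 < a.re) (R : ℝ) :
    ∃ u : (ι → ℤ) → ℝ, Summable u ∧
      ∀ x v, ‖v‖ ≤ R → ‖gauss B a (v + iv x)‖ ≤ u x := by
  obtain ⟨c, hc, hq⟩ := exists_qf_ge hB
  refine ⟨fun x => Real.exp (π * a.re * c * (Fintype.card ι * R ^ 2)) *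
    Real.exp (-(π * a.re * c / 2) * ∑ i, (x i : ℝ) ^ 2),
    (summable_exp_vec (by positivity)).mul_left _, fun x v hv => ?_⟩
  simp only [norm_gauss, ← Real.exp_add, Real.exp_le_exp]
  have h1 : ∑ i, (x i : ℝ) ^ 2 / 2 - Fintype.card ι * R ^ 2 ≤ ∑ i, (v + iv x) i ^ 2 := by
    have e : (Fintype.card ι : ℝ) * R ^ 2 = ∑ _i : ι, R ^ 2 := by simp
    rw [e, ← Finset.sum_sub_distrib]
    refine Finset.sum_le_sum fun i _ => ?_
    have hi : v i ^ 2 ≤ R ^ 2 := by
      have := (norm_le_pi_norm v i).trans hv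
      rw [Real.norm_eq_abs] at this
      exact sq_le_sq' (abs_le.1 this).1 (abs_le.1 this).2
    simp only [Pi.add_apply, iv]
    nlinarith [sq_nonneg ((x i : ℝ) + 2 * v i)]
  have h2 : 0 < π * a.re := mul_pos Real.pi_pos ha
  have h3 := mul_le_mul_of_nonneg_left ((mul_le_mul_of_nonneg_left h1 hc.le).trans (hq _)) h2.le
  rw [← Finset.sum_div] at h3
  linarith

theorem summable_gauss {B : Matrix ι ι ℝ} (hB : B.PosDef) {a : ℂ} (ha : 0 < a.re) (v : ι → ℝ) :
    Summable fun x : ι → ℤ => gauss B a (v + iv x) := by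
  obtain ⟨u, hu, hb⟩ := exists_bound hB ha ‖v‖
  exact Summable.of_norm_bounded hu fun x => hb x v le_rfl

theorem summable_gauss_iv {B : Matrix ι ι ℝ} (hB : B.PosDef) {a : ℂ} (ha : 0 < a.re) :
    Summable fun x : ι → ℤ => gauss B a (iv x) := by
  simpa using summable_gauss hB ha 0

/-- The periodised Gaussian. -/
def periodised (B : Matrix ι ι ℝ) (a : ℂ) (v : ι → ℝ) : ℂ := ∑' x, gauss B a (v + iv x)

theorem periodised_add_iv (B : Matrix ι ι ℝ) (a : ℂ) (v : ι → ℝ) (x : ι → ℤ) :
    periodised B a (v + iv x) = periodised B a v := by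
  unfold periodised
  rw [← (Equiv.addLeft x).tsum_eq fun y => gauss B a (v + iv y)]
  refine tsum_congr fun y => ?_
  congr 1
  funext i
  simp [iv]
  ring

theorem continuous_periodised {B : Matrix ι ι ℝ} (hB : B.PosDef) {a : ℂ} (ha : 0 < a.re) :
    Continuous (periodised B a) := by
  refine continuous_iff_continuousAt.2 fun v => ?_
  obtain ⟨u, hu, hb⟩ := exists_bound hB ha (‖v‖ + 1)
  have h : ContinuousOn (periodised B a) (Metric.ball v 1) :=
    continuousOn_tsum (fun x => ((continuous_gauss B a).comp (by fun_prop)).continuousOn) hu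
      fun x w hw => hb x w (by
        rw [Metric.mem_ball, dist_eq_norm] at hw
        calc ‖w‖ = ‖v + (w - v)‖ := by rw [add_sub_cancel]
          _ ≤ ‖v‖ + ‖w - v‖ := norm_add_le _ _
          _ ≤ _ := by linarith)
  exact h.continuousAt (Metric.ball_mem_nhds v one_pos)

/-- The projection to the torus. -/
def toTorus (v : ι → ℝ) : UnitAddTorus ι := fun i => (v i : UnitAddCircle)

theorem isOpenQuotientMap_toTorus : IsOpenQuotientMap (toTorus (ι := ι)) :=
  IsOpenQuotientMap.piMap fun _ => QuotientAddGroup.isOpenQuotientMap_mk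

theorem exists_eq_add_iv {v w : ι → ℝ} (h : toTorus v = toTorus w) : ∃ x, w = v + iv x := by
  have : ∀ i, ∃ n : ℤ, w i = v i + n := fun i => by
    have := congrFun h i
    simp only [toTorus, AddCircle, QuotientAddGroup.eq, AddSubgroup.mem_zmultiples_iff] at this
    obtain ⟨n, hn⟩ := this
    exact ⟨n, by simp at hn; linarith⟩
  choose x hx using this
  exact ⟨x, funext fun i => by simp [iv, hx i]⟩

/-- The periodised Gaussian on the torus. -/
def torusGauss {B : Matrix ι ι ℝ} (hB : B.PosDef) {a : ℂ} (ha : 0 < a.re) :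
    C(UnitAddTorus ι, ℂ) where
  toFun z := periodised B a (Function.surjInv isOpenQuotientMap_toTorus.surjective z)
  continuous_toFun := by
    rw [← isOpenQuotientMap_toTorus.continuous_comp_iff]
    refine (continuous_periodised hB ha).congr fun v => ?_
    obtain ⟨x, hx⟩ := exists_eq_add_iv
      (Function.surjInv_eq isOpenQuotientMap_toTorus.surjective (toTorus v))
    simp only [Function.comp_apply]
    conv_lhs => rw [hx]
    exact periodised_add_iv B a _ x

theorem torusGauss_toTorus {B : Matrix ι ι ℝ} (hB : B.PosDef) {a : ℂ} (ha : 0 < a.re)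
    (v : ι → ℝ) : torusGauss hB ha (toTorus v) = periodised B a v := by
  obtain ⟨x, hx⟩ := exists_eq_add_iv
    (Function.surjInv_eq isOpenQuotientMap_toTorus.surjective (toTorus v))
  show periodised B a _ = _
  conv_rhs => rw [hx]
  exact (periodised_add_iv B a _ x).symm

/-- The unit cell at an integral vector. -/
def cell (x : ι → ℤ) : Set (ι → ℝ) := {v | ∀ i, v i ∈ Set.Ioc (x i : ℝ) (x i + 1)}

theorem measurableSet_cell (x : ι → ℤ) : MeasurableSet (cell x) :=
  MeasurableSet.univ_pi' fun _ => measurableSet_Ioc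

theorem iUnion_cell : ⋃ x : ι → ℤ, cell x = (Set.univ : Set (ι → ℝ)) := by
  refine Set.eq_univ_of_forall fun v => Set.mem_iUnion.2 ⟨fun i => ⌈v i⌉ - 1, fun i => ?_⟩
  constructor
  · push_cast; linarith [Int.ceil_lt_add_one (v i)]
  · push_cast; linarith [Int.le_ceil (v i)]

theorem disjoint_cell : Pairwise (Function.onFun Disjoint (cell (ι := ι))) := by
  intro x y hxy
  rw [Function.onFun, Set.disjoint_left]
  refine fun v hx hy => hxy (funext fun i => ?_)
  have h1 := hx i
  have h2 := hy i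
  simp only [Set.mem_Ioc] at h1 h2
  have a1 : (x i : ℝ) < (y i : ℝ) + 1 := by linarith
  have a2 : (y i : ℝ) < (x i : ℝ) + 1 := by linarith
  have b1 : x i < y i + 1 := by exact_mod_cast a1
  have b2 : y i < x i + 1 := by exact_mod_cast a2
  omega

theorem hasSum_cell {h : (ι → ℝ) → ℂ} (hh : Integrable h) :
    HasSum (fun x : ι → ℤ => ∫ v in cell 0, h (v + iv x)) (∫ v, h v) := by
  have := hasSum_integral_iUnion (μ := volume) (f := h) measurableSet_cell disjoint_cell
    hh.integrableOn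
  rw [iUnion_cell, setIntegral_univ] at this
  refine this.congr_fun fun x => ?_
  rw [← (measurePreserving_add_right volume (iv x)).setIntegral_preimage_emb
    (measurableEmbedding_addRight (iv x)) h (cell x)]
  congr 2
  ext v
  simp only [cell, Set.mem_preimage, Set.mem_ofPred_eq, Pi.zero_apply, Int.cast_zero, Pi.add_apply,
    iv, Set.mem_Ioc]
  refine forall_congr' fun i => ?_
  constructor <;> rintro ⟨p, q⟩ <;> constructor <;> linarith

theorem mFourier_toTorus (m : ι → ℤ) (v : ι → ℝ) : mFourier (-m) (toTorus v) = wave m v := by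
  show ∏ i, fourier ((-m) i) (v i : UnitAddCircle) = _
  simp_rw [fourier_coe_apply, ← Complex.exp_sum, wave]
  congr 1
  rw [Finset.mul_sum]
  refine Finset.sum_congr rfl fun i _ => ?_
  push_cast [Pi.neg_apply]
  ring

section Coefficient

variable {B : Matrix ι ι ℝ} (hB : B.PosDef) {a : ℂ} (ha : 0 < a.re)

theorem norm_le_of_mem_cell_zero {v : ι → ℝ} (hv : v ∈ cell (0 : ι → ℤ)) : ‖v‖ ≤ 1 := by
  refine (pi_norm_le_iff_of_nonneg zero_le_one).2 fun i => ?_
  have := hv i
  simp only [Pi.zero_apply, Int.cast_zero, zero_add, Set.mem_Ioc] at this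
  rw [Real.norm_eq_abs, abs_le]
  constructor <;> linarith

theorem volume_cell_zero : volume (cell (0 : ι → ℤ)) = 1 := by
  have e : cell (0 : ι → ℤ) = Set.univ.pi fun _ => Set.Ioc (0 : ℝ) 1 := by
    ext v; simp [cell]
  rw [e, volume_pi_pi]
  simp

include hB ha in
theorem mFourierCoeff_torusGauss (m : ι → ℤ) (hint : Integrable fun v => wave m v * gauss B a v) :
    mFourierCoeff (torusGauss hB ha) m = ∫ v, wave m v * gauss B a v := by
  rw [mFourierCoeff_eq_integral _ _ (0 : ι → ℝ)]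
  have hset : {v : ι → ℝ | ∀ i, v i ∈ Set.Ioc ((0 : ι → ℝ) i) ((0 : ι → ℝ) i + 1)} = cell 0 := by
    ext v; simp [cell]
  rw [hset, ← (hasSum_cell hint).tsum_eq]
  obtain ⟨u, hu, hb⟩ := exists_bound hB ha 1
  have hbd : ∀ x, ∀ v ∈ cell (0 : ι → ℤ), ‖wave m v * gauss B a (v + iv x)‖ ≤ u x := fun x v hv => by
    rw [norm_mul, norm_wave, one_mul]
    exact hb x v (norm_le_of_mem_cell_zero hv)
  have hfin : volume (cell (0 : ι → ℤ)) ≠ ⊤ := by rw [volume_cell_zero]; simp
  have hI : ∀ x, IntegrableOn (fun v => wave m v * gauss B a (v + iv x)) (cell 0) := fun x =>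
    IntegrableOn.of_bound hfin.lt_top (((continuous_wave m).mul
      ((continuous_gauss B a).comp (by fun_prop))).aestronglyMeasurable) (u x)
      ((ae_restrict_iff' (measurableSet_cell 0)).2 (Filter.Eventually.of_forall (hbd x)))
  have hnorm : Summable fun x => ∫ v in cell 0, ‖wave m v * gauss B a (v + iv x)‖ := by
    refine Summable.of_nonneg_of_le (fun x => integral_nonneg fun v => norm_nonneg _) (fun x => ?_) hu
    refine (setIntegral_mono_on (hI x).norm (integrableOn_const hfin) (measurableSet_cell 0)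
      (hbd x)).trans (le_of_eq ?_)
    simp [measureReal_def, volume_cell_zero]
  calc ∫ v in cell 0, mFourier (-m) (fun i => (v i : UnitAddCircle)) •
        torusGauss hB ha (fun i => (v i : UnitAddCircle))
      = ∫ v in cell 0, ∑' x, wave m v * gauss B a (v + iv x) := by
        refine setIntegral_congr_fun (measurableSet_cell 0) fun v _ => ?_
        show mFourier (-m) (toTorus v) • torusGauss hB ha (toTorus v) = _
        rw [mFourier_toTorus, torusGauss_toTorus, smul_eq_mul, periodised, tsum_mul_left]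
    _ = ∑' x, ∫ v in cell 0, wave m v * gauss B a (v + iv x) :=
        (integral_tsum_of_summable_integral_norm hI hnorm).symm
    _ = _ := by simp_rw [wave_add_iv]

end Coefficient

/-- The Gaussian integral with an integral frequency. -/
theorem integral_wave_gauss {P : Matrix ι ι ℝ} {B : Matrix ι ι ℝ} (hP : B = Pᵀ * P)
    (hdet : P.det ^ 2 = 1) {m : ι → ℤ} {y : ι → ℝ} (hy : ∀ i, (m i : ℝ) = (B *ᵥ y) i)
    {b : ℂ} (hb : 0 < b.re) {h : ℕ} (hι : Fintype.card ι = 2 * h) :
    Integrable (fun v => wave m v * gauss B b v) ∧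
      ∫ v, wave m v * gauss B b v = b⁻¹ ^ h * gauss B b⁻¹ y := by
  set G : (ι → ℝ) → ℂ := fun s =>
    cexp (-((π : ℂ) * b) * ∑ i, (s i : ℂ) ^ 2 + ∑ i, (-(2 * π * I) * ((P *ᵥ y) i : ℂ)) * s i)
  have hfg : (fun v => wave m v * gauss B b v) = fun v => G (toLin' P v) := by
    funext v
    have e1 : ∑ i, (m i : ℝ) * v i = ∑ i, (P *ᵥ y) i * (P *ᵥ v) i := by
      have : (fun i => (m i : ℝ)) = B *ᵥ y := funext hy
      change (fun i => (m i : ℝ)) ⬝ᵥ v = (P *ᵥ y) ⬝ᵥ (P *ᵥ v)
      rw [this, hP, dotProduct_mulVec (P *ᵥ y), ← mulVec_transpose, mulVec_mulVec]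
    have e1' : ∑ i, (m i : ℂ) * (v i : ℂ) = ∑ i, ((P *ᵥ y) i : ℂ) * ((P *ᵥ v) i : ℂ) := by
      exact_mod_cast e1
    simp only [G, wave, gauss, hP, qf_transpose_mul, toLin'_apply, ← Complex.exp_add]
    congr 1
    simp only [mul_assoc (-(2 * (π : ℂ) * I))]
    rw [e1', ← Finset.mul_sum]
    push_cast
    ring
  have hP0 : P.det ≠ 0 := fun h0 => by rw [h0] at hdet; norm_num at hdet
  have hmp : MeasurePreserving (toLin' P) (volume : Measure (ι → ℝ)) volume := by
    refine ⟨(LinearMap.continuous_of_finiteDimensional (toLin' P)).measurable, ?_⟩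
    have h1 : |P.det⁻¹| = 1 := by
      rcases sq_eq_one_iff.1 hdet with h | h <;> simp [h]
    rw [Real.map_matrix_volume_pi_eq_smul_volume_pi hP0, h1, ENNReal.ofReal_one, one_smul]
  have hemb : MeasurableEmbedding (toLin' P) :=
    (LinearMap.continuous_of_finiteDimensional (toLin' P)).measurableEmbedding
      (mulVec_injective_iff_isUnit.2 ((isUnit_iff_isUnit_det P).2 (isUnit_iff_ne_zero.2 hP0)))
  have hπb : 0 < ((π : ℂ) * b).re := by rw [re_ofReal_mul]; exact mul_pos Real.pi_pos hb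
  have hG : Integrable G := GaussianFourier.integrable_cexp_neg_mul_sum_add hπb _
  rw [hfg]
  refine ⟨hmp.integrable_comp_of_integrable hG, ?_⟩
  rw [hmp.integral_comp hemb G, GaussianFourier.integral_cexp_neg_mul_sum_add hπb]
  have hπ : (π : ℂ) ≠ 0 := by exact_mod_cast Real.pi_ne_zero
  congr 1
  · rw [hι, show ((2 * h : ℕ) : ℂ) / 2 = (h : ℂ) by push_cast; ring, cpow_natCast]
    congr 1
    field_simp
  · rw [gauss, hP, qf_transpose_mul]
    congr 1
    push_cast
    rw [Finset.sum_div, Finset.mul_sum]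
    refine Finset.sum_congr rfl fun i _ => ?_
    have hb0 : b ≠ 0 := fun h0 => by simp [h0] at hb
    field_simp
    linear_combination 4 * ((P *ᵥ y) i : ℂ) ^ 2 * Complex.I_sq

theorem poisson {B : Matrix ι ι ℤ} (hpd : (B.map (Int.cast : ℤ → ℝ)).PosDef) (hdet : B.det = 1)
    {h : ℕ} (hι : Fintype.card ι = 2 * h) {a : ℂ} (ha : 0 < a.re) :
    ∑' x : ι → ℤ, gauss (B.map (Int.cast : ℤ → ℝ)) a⁻¹ (iv x) =
      a ^ h * ∑' x : ι → ℤ, gauss (B.map (Int.cast : ℤ → ℝ)) a (iv x) := by
  set R : Matrix ι ι ℝ := B.map (Int.cast : ℤ → ℝ)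
  obtain ⟨P, hP⟩ := exists_factor hpd
  have hR : R.det = 1 := by
    have := (Int.castRingHom ℝ).map_det B
    rw [hdet, map_one] at this
    exact this.symm
  have hP2 : P.det ^ 2 = 1 := by rw [← hR, hP, det_mul, det_transpose, sq]
  have hb := re_inv_pos ha
  have key : ∀ y : ι → ℤ,
      mFourierCoeff (torusGauss hpd hb) (B *ᵥ y) = a ^ h * gauss R a (iv y) := by
    intro y
    have hy : ∀ i, (((B *ᵥ y) i : ℤ) : ℝ) = (R *ᵥ iv y) i := fun i => by
      simp [R, mulVec, dotProduct, iv]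
    obtain ⟨h1, h2⟩ := integral_wave_gauss hP hP2 hy hb hι
    rw [mFourierCoeff_torusGauss hpd hb _ h1, h2, inv_inv]
  have hBd : IsUnit B.det := by rw [hdet]; exact isUnit_one
  let e : (ι → ℤ) ≃ (ι → ℤ) :=
    { toFun := fun y => B *ᵥ y
      invFun := fun y => B⁻¹ *ᵥ y
      left_inv := fun y => by simp only [mulVec_mulVec, nonsing_inv_mul _ hBd, one_mulVec]
      right_inv := fun y => by simp only [mulVec_mulVec, mul_nonsing_inv _ hBd, one_mulVec] }
  have hs : Summable (mFourierCoeff (torusGauss hpd hb)) := by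
    refine e.summable_iff.1 ?_
    exact ((summable_gauss_iv hpd ha).mul_left (a ^ h)).congr fun y => (key y).symm
  have h0 := (hasSum_mFourier_series_apply_of_summable hs (toTorus 0)).tsum_eq
  have e0 : ∀ m : ι → ℤ, mFourier m (toTorus 0) = 1 := fun m => by
    have := mFourier_toTorus (-m) (0 : ι → ℝ)
    rw [neg_neg] at this
    rw [this]
    simp [wave]
  simp only [torusGauss_toTorus, e0, smul_eq_mul, mul_one, periodised, zero_add] at h0
  rw [← h0, ← e.tsum_eq, ← tsum_mul_left]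
  exact tsum_congr key

end Cfsg.Agent.Theta
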